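import Cfsg.Agent.H373.Spec

/-!
# Elements of `PSU n F 3` of order divisible by a prime of order `n` (helper762)
-/

set_option autoImplicit false
set_option linter.unusedSectionVars false

namespace Cfsg.Agent.H762.SUThree

open Cfsg Module Matrix Cfsg.Agent.LieClassical.HermBasic Cfsg.Agent.LieClassical.HermSiegel
  Cfsg.Agent.H373.Eig Cfsg.Agent.H373.Tori Cfsg.Agent.ClassicalGeometry.PSUAutBasic

variable {F : Type*} [Field F] [Fintype F] {q : ℕ}

/-- **Centralizers of elements of prime order `s`, where `-q` has order `n` modulo `s`.** There is a faithful linear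
character, with values of order dividing `1 + t + ... + t ^ (n - 1)`, where `t = -q`. -/
theorem card_centralizer_top (hF : Fintype.card F = q ^ 2) (p : ℕ) [Fact p.Prime] [CharP F p] {n : ℕ} (hn : 0 < n)
    {s : ℕ} (hs : s.Prime) (hsp : s ≠ p) (htn : orderOf ((-(q : ℤ) : ℤ) : ZMod s) = n) {M : ℕ}
    (hM : (M : ℤ) = ∑ i ∈ Finset.range n, (-(q : ℤ)) ^ i ∨ -(M : ℤ) = ∑ i ∈ Finset.range n, (-(q : ℤ)) ^ i)
    {x : SU n F q} (hx : orderOf x = s) : Nat.card (Subgroup.centralizer ({x} : Set (SU n F q))) ∣ M := by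
  classical
  obtain ⟨φ, hφ⟩ := exists_phi hF
  obtain ⟨c, hcs, hc1, hev⟩ := exists_start p hs hsp φ hφ hx hF
  have hx' := hat_unitary hF φ hφ x
  set t : ℤ := -(q : ℤ) with ht
  choose v hv hvx using hev
  let l : Fin n → AlgebraicClosure F := fun i => c ^ (t ^ (i : ℕ))
  have hinj : Function.Injective l := by
    intro i j hij
    have h1 := (zpow_eq_iff hs hcs hc1 _ _).1 hij
    push_cast at h1
    have h2 := pow_injOn_Iio_orderOf (x := ((t : ℤ) : ZMod s)) (by rw [htn]; exact i.2) (by rw [htn]; exact j.2) h1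
    exact Fin.ext h2
  have hD : Diag (hat x) l (fun i => v i) := ⟨hinj, fun i => hv i, fun i => hvx i⟩
  set C := Subgroup.centralizer ({x} : Set (SU n F q)) with hC
  have hcomm : ∀ g ∈ C, hat x * hat g = hat g * hat x := by
    intro g hg
    rw [← hat_mul, ← hat_mul, Subgroup.mem_centralizer_singleton_iff.1 hg]
  obtain ⟨θ, hθ⟩ := exists_char C (hv 0) (fun g hg => by
    obtain ⟨z, hz⟩ := hD.exists_eigen (hcomm g hg)
    exact ⟨z ⟨0, hn⟩, hz ⟨0, hn⟩⟩)
  -- the other eigenvalues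
  have hall : ∀ g : C, ∀ i : Fin n, hat (g : SU n F q) *ᵥ v i = (θ g ^ (t ^ (i : ℕ))) • v i := by
    intro g
    obtain ⟨z, hz⟩ := hD.exists_eigen (hcomm g g.2)
    have hz0 : z ⟨0, hn⟩ = θ g := by
      have h1 := hz ⟨0, hn⟩
      have h2 := hθ g
      have h3 : (z ⟨0, hn⟩ - θ g) • v 0 = 0 := by
        rw [sub_smul, ← h2]
        exact sub_eq_zero.2 h1.symm
      rcases smul_eq_zero.1 h3 with h | h
      · exact sub_eq_zero.1 h
      · exact absurd h (hv 0)
    have hstep : ∀ i : ℕ, ∀ hi : i + 1 < n, z ⟨i + 1, hi⟩ = (φ (z ⟨i, by omega⟩))⁻¹ := by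
      intro i hi
      obtain ⟨j, hj, hzj⟩ := hD.step φ hx' (hat_unitary hF φ hφ (g : SU n F q)) hz ⟨i, by omega⟩
      have h1 : l ⟨i + 1, hi⟩ = l j := by
        rw [hj]
        show c ^ (t ^ (i + 1)) = (φ (c ^ (t ^ i)))⁻¹
        rw [phi_zpow φ hφ, pow_succ]
      rw [← hzj, hinj h1]
    have h1 : ∀ i : ℕ, ∀ hi : i < n, z ⟨i, hi⟩ = θ g ^ (t ^ i) := by
      intro i
      induction i with
      | zero => intro hi; rw [pow_zero, _root_.zpow_one]; exact hz0
      | succ i ih =>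
        intro hi
        rw [hstep i hi, ih (by omega), phi_zpow φ hφ, pow_succ]
    intro i
    rw [hz i, h1 i i.2]
  have hθinj : Function.Injective θ := by
    intro g h hgh
    have h1 : θ (g * h⁻¹) = 1 := by
      rw [map_mul, hgh, ← map_mul, mul_inv_cancel, map_one]
    have h2 : ((g * h⁻¹ : C) : SU n F q) = 1 := by
      apply eq_one_of_hat hD
      intro i
      rw [hall, h1, _root_.one_zpow, one_smul]
    exact mul_inv_eq_one.1 (Subtype.ext h2)
  refine card_dvd θ hθinj fun g => ?_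
  -- the determinant
  have h1 := hD.det_eq (hall g)
  rw [det_hat] at h1
  have hθ0 : θ g ≠ 0 := by
    intro h0
    have h2 : θ g * θ g⁻¹ = 1 := by rw [← map_mul, mul_inv_cancel, map_one]
    rw [h0, zero_mul] at h2
    exact zero_ne_one h2
  have h2 : ∏ i : Fin n, θ g ^ (t ^ (i : ℕ)) = θ g ^ (∑ i ∈ Finset.range n, t ^ i) := by
    rw [Fin.prod_univ_eq_prod_range (fun i => θ g ^ (t ^ i)) n]
    have : ∀ S : Finset ℕ, ∏ i ∈ S, θ g ^ (t ^ i) = θ g ^ (∑ i ∈ S, t ^ i) := by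
      intro S
      induction S using Finset.induction_on with
      | empty => simp
      | insert a S ha ih => rw [Finset.prod_insert ha, Finset.sum_insert ha, zpow_add₀ hθ0, ih]
    exact this _
  rw [h2] at h1
  rcases hM with hM | hM
  · rw [← hM, _root_.zpow_natCast] at h1
    exact h1.symm
  · rw [← hM, _root_.zpow_neg, _root_.zpow_natCast] at h1
    exact inv_eq_one.1 h1.symm

/-- If `3` has order `n` modulo `r`, with `4 ∣ n`, then so has `-3`. -/
theorem order_neg_three {n r : ℕ} (hn : 0 < n) (h4 : 4 ∣ n) (hr : r.Prime) (hrn : orderOf (3 : ZMod r) = n) :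
    orderOf (-3 : ZMod r) = n := by
  have := Fact.mk hr
  obtain ⟨m, rfl⟩ := h4
  have hm : 0 < m := by omega
  have h1 : (3 : ZMod r) ^ (4 * m) = 1 := by rw [← hrn]; exact pow_orderOf_eq_one _
  have h2 : (3 : ZMod r) ^ (2 * m) ≠ 1 := by
    intro h
    have h3 := orderOf_dvd_of_pow_eq_one h
    rw [hrn] at h3
    have := Nat.le_of_dvd (by omega) h3
    omega
  have h3 : (-3 : ZMod r) ^ (2 * m) = 3 ^ (2 * m) := by
    rw [neg_pow, pow_mul, neg_one_sq, one_pow, one_mul]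
  have h5 : (-3 : ZMod r) ^ (4 * m) = 1 := by
    rw [neg_pow, show 4 * m = 2 * (2 * m) from by ring, pow_mul (-1 : ZMod r), neg_one_sq, one_pow, one_mul,
      show 2 * (2 * m) = 4 * m from by ring, h1]
  have hd := orderOf_dvd_of_pow_eq_one h5
  set d := orderOf (-3 : ZMod r) with hdd
  have h6 : (3 : ZMod r) ^ (2 * d) = 1 := by
    have h7 : (-3 : ZMod r) ^ (2 * d) = 1 := by rw [mul_comm, pow_mul, hdd, pow_orderOf_eq_one, one_pow]
    rw [neg_pow, pow_mul (-1 : ZMod r), neg_one_sq, one_pow, one_mul] at h7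
    exact h7
  have h7 := orderOf_dvd_of_pow_eq_one h6
  rw [hrn] at h7
  obtain ⟨a, ha⟩ := h7
  obtain ⟨b, hb⟩ := hd
  have hd0 : 0 < d := by
    rcases Nat.eq_zero_or_pos d with h | h
    · rw [h] at hb; omega
    · exact h
  have ha' : d = 2 * m * a := by
    have : 2 * d = 2 * (2 * m * a) := by rw [ha]; ring
    omega
  have hab : a * b = 2 := by
    have h8 : 4 * m = 2 * m * a * b := by rw [← ha']; exact hb
    have h9 : 2 * m * 2 = 2 * m * (a * b) := by rw [← mul_assoc, ← h8]; ring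
    exact (Nat.eq_of_mul_eq_mul_left (by omega) h9).symm
  have ha2 : a ∣ 2 := ⟨b, hab.symm⟩
  rcases (Nat.dvd_prime Nat.prime_two).1 ha2 with h | h
  · exfalso
    apply h2
    rw [← h3]
    have : d = 2 * m := by rw [ha', h, mul_one]
    rw [← this, hdd, pow_orderOf_eq_one]
  · rw [ha', h]; ring

theorem ne_two_three {n r : ℕ} (hn : 2 ≤ n) (hrn : orderOf (3 : ZMod r) = n) : r ≠ 2 ∧ r ≠ 3 := by
  constructor
  · rintro rfl
    have h : (3 : ZMod 2) = 1 := by decide
    rw [h, orderOf_one] at hrn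
    omega
  · rintro rfl
    have h : (3 : ZMod 3) = 0 := by decide
    rw [h, orderOf_zero] at hrn
    omega

/-- The sum `1 + t + ... + t ^ (n - 1)` for `t = -3`, `n` even. -/
theorem sum_neg_three {n : ℕ} (h2 : 2 ∣ n) : -(((3 ^ n - 1) / 4 : ℕ) : ℤ) = ∑ i ∈ Finset.range n, (-((3 : ℕ) : ℤ)) ^ i := by
  obtain ⟨m, rfl⟩ := h2
  have h1 : 4 ∣ 3 ^ (2 * m) - 1 := by
    have h8 : (8 : ℕ) ∣ 9 ^ m - 1 := by
      have := Nat.sub_dvd_pow_sub_pow 9 1 m
      rwa [one_pow] at this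
    rw [pow_mul]
    exact (by norm_num : 4 ∣ 8).trans h8
  obtain ⟨k, hk⟩ := h1
  have hpos : 1 ≤ 3 ^ (2 * m) := Nat.one_le_pow _ _ (by norm_num)
  rw [hk, Nat.mul_div_cancel_left _ (by norm_num)]
  have h2 := geom_sum_mul (-((3 : ℕ) : ℤ)) (2 * m)
  have h3 : (-((3 : ℕ) : ℤ)) ^ (2 * m) = ((3 ^ (2 * m) : ℕ) : ℤ) := by
    rw [neg_pow, pow_mul (-1 : ℤ), neg_one_sq, one_pow, one_mul]
    push_cast
    rfl
  have h4 : ((3 ^ (2 * m) : ℕ) : ℤ) = 4 * k + 1 := by
    have : 3 ^ (2 * m) = 4 * k + 1 := by omega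
    rw [this]; push_cast; ring
  rw [h3, h4] at h2
  push_cast at h2 ⊢
  linarith

/-- **SU3-TOP.** -/
theorem top_dvd {F : Type*} [Field F] [Fintype F] (hF : Fintype.card F = 9) {n : ℕ} (hn : 4 ≤ n) (h4 : 4 ∣ n) {r : ℕ}
    (hr : r.Prime) (hrn : orderOf (3 : ZMod r) = n) (x : Cfsg.PSU n F 3) (hx : r ∣ orderOf x) :
    orderOf x ∣ (3 ^ n - 1) / 16 := by
  have hF' : Fintype.card F = 3 ^ 2 := by rw [hF]; norm_num
  obtain ⟨p, k, hp, hchar, hk, -⟩ := exists_prime_pow hF'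
  have := Fact.mk hp
  have hp3 : p = 3 := by
    have h1 : p ∣ 3 := by
      have hk0 : k ≠ 0 := by rintro rfl; simp at hk
      rw [hk]
      exact dvd_pow_self p hk0
    exact (Nat.prime_dvd_prime_iff_eq hp (by norm_num)).1 h1
  subst hp3
  obtain ⟨hr2, hr3⟩ := ne_two_three (by omega) hrn
  obtain ⟨y, z, hy, rfl, hz⟩ := H373.Spec.exists_lift_centralizer x hx
  have h1 := H373.Spec.orderOf_mul_dvd _ (H373.Spec.center_le_centralizer {y}) hz
  rw [S0279.result hF' n (by omega)] at h1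
  have h2 : Nat.gcd n (3 + 1) = 4 := Nat.gcd_eq_right h4
  rw [h2] at h1
  have h3 : orderOf ((-((3 : ℕ) : ℤ) : ℤ) : ZMod r) = n := by
    have := order_neg_three (by omega) h4 hr hrn
    push_cast
    exact this
  have h5 := card_centralizer_top hF' 3 (by omega) hr hr3 h3
    (Or.inr (sum_neg_three ((by norm_num : 2 ∣ 4).trans h4))) hy
  have h6 := h1.trans h5
  have h7 : (3 ^ n - 1) / 4 = 4 * ((3 ^ n - 1) / 16) := by
    have h8 : 16 ∣ 3 ^ n - 1 := by
      obtain ⟨m, rfl⟩ := h4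
      have h9 : (80 : ℕ) ∣ 81 ^ m - 1 := by
        have := Nat.sub_dvd_pow_sub_pow 81 1 m
        rwa [one_pow] at this
      rw [pow_mul]
      exact (by norm_num : 16 ∣ 80).trans h9
    obtain ⟨k, hk⟩ := h8
    omega
  rw [h7, mul_comm] at h6
  exact Nat.dvd_of_mul_dvd_mul_left (by norm_num) h6

end Cfsg.Agent.H762.SUThree
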